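import Cfsg.Agent.Lib.HJ.Iso
import Cfsg.Agent.Lib.JT.Tools

/-!
# A group of Hall–Janko type acting on `100` and on `315` points
-/

set_option autoImplicit false
set_option maxRecDepth 100000
set_option Elab.async false

namespace CfsgLib.JT

open CfsgLib.Comput Subgroup MulAction

/-- A network. -/
noncomputable def n0 : Net :=
  Net.cons 1 0x40000004040000000400000
  (Net.cons 2 0x2000000000000000000000
  (Net.cons 4 0x80000000000000000000000
  (Net.cons 8 0x8700aa0077000000000000
  (Net.cons 4 0x80c000008080f0f0f080000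
  (Net.cons 2 0x3301033331010000000100000
  (Net.cons 1 0x15500004040000000400000
  (Net.nil)))))))

/-- A network. -/
noncomputable def n1 : Net :=
  Net.cons 1 0x51500001000000000400000
  (Net.cons 2 0x11012100233323210220020
  (Net.cons 4 0x703070a020a040401080000
  (Net.cons 8 0x500120089000d00800000
  (Net.cons 16 0xd8000000000
  (Net.cons 32 0x60300000
  (Net.cons 64 0x60300000
  (Net.cons 32 0xa000000006db00000
  (Net.cons 16 0x974000008d8d00008000
  (Net.cons 8 0x5d009800a9007f00f20000
  (Net.cons 4 0x7060f020409060104080008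
  (Net.cons 2 0x2300123203233322301320120
  (Net.cons 1 0x41400004555555544400001
  (Net.nil)))))))))))))

/-- A network. -/
noncomputable def n2 : Net :=
  Net.cons 1 0x51400005000000000400000
  (Net.cons 2 0x13320000011320101010010
  (Net.cons 4 0x908020c0e05050505040000
  (Net.cons 8 0x6800850061002300400000
  (Net.cons 16 0x2000000234000000000
  (Net.cons 32 0x4840200
  (Net.cons 64 0x4840200
  (Net.cons 32 0x50000000027c40200
  (Net.cons 16 0xab420000636300004000
  (Net.cons 8 0xea00a7007d00bf00dc0000
  (Net.cons 4 0x901000e0e050d0202040004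
  (Net.cons 2 0x3031123123021321010110210
  (Net.cons 1 0x41500000555555511400001
  (Net.nil)))))))))))))

/-- A network. -/
noncomputable def n3 : Net :=
  Net.cons 1 0x5514000004040000000000000
  (Net.cons 2 0x20120001001002300000030
  (Net.cons 4 0xd000200000400000000
  (Net.cons 8 0x900070021000000000000
  (Net.cons 16 0xd800000000
  (Net.cons 32 0xf0000000000d80000
  (Net.cons 16 0xfff0000000ff00000000
  (Net.cons 8 0x5c00dd0034000000000000
  (Net.cons 4 0x2080708020806010600000c
  (Net.cons 2 0x2331023131100333233100030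
  (Net.cons 1 0x5514000004141555455401040
  (Net.nil)))))))))))

/-- A network. -/
noncomputable def n4 : Net :=
  Net.cons 1 0x10000000000000000000000
  (Net.cons 2 0x1000300002310000000300000
  (Net.cons 4 0x20200000e01000000000000
  (Net.cons 8 0x2c00000004000000000000
  (Net.cons 16 0xf0000000000000000
  (Net.cons 32 0xd200000
  (Net.cons 64 0xd200000
  (Net.cons 32 0xf000000000d200000
  (Net.cons 16 0xf0000000000000000
  (Net.cons 8 0xd60033007c000000000000
  (Net.cons 4 0xa00000f050507000c0000
  (Net.cons 2 0x3323100002211000000300300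
  (Net.cons 1 0x104155555454001155540040
  (Net.nil)))))))))))))

/-- A network. -/
noncomputable def n5 : Net :=
  Net.cons 1 0x1440000000500000
  (Net.cons 2 0x30000001300000000230000
  (Net.cons 4 0xf03000006000000000c0000
  (Net.cons 8 0xf00000000000000c00000
  (Net.cons 16 0xf0000000000000000
  (Net.cons 32 0xf0000000000000000
  (Net.cons 16 0xf000000000000c000
  (Net.cons 8 0xff00ff00db000000c00000
  (Net.cons 4 0xf0c000008070001050f0000
  (Net.cons 2 0x3303311110013000000230000
  (Net.cons 1 0x44000004115554400501000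
  (Net.nil)))))))))))

/-- A network. -/
noncomputable def n6 : Net :=
  Net.cons 1 0x41400001440454114000000
  (Net.cons 2 0x30003003221303002200300
  (Net.cons 4 0xf050e030f0c080107050201
  (Net.cons 8 0xcf00490092000200d00002
  (Net.cons 16 0x2df000002d000000000
  (Net.cons 32 0x2d0
  (Net.cons 64 0x2d0
  (Net.cons 32 0xf0000000002d002d0
  (Net.cons 16 0xffff0000ffff0000d002
  (Net.cons 8 0x9f002f00e3002600fd002f
  (Net.cons 4 0xf0c05080f090804070f0201
  (Net.cons 2 0x21131322330212101033300
  (Net.cons 1 0x5514055551540454114014041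
  (Net.nil)))))))))))))

/-- A network. -/
noncomputable def n7 : Net :=
  Net.cons 1 0x4401110144040000000000000
  (Net.cons 2 0x1200320011330003000300330
  (Net.cons 4 0x8000c000d0c000000040000
  (Net.cons 8 0x3000e00cb000300030000
  (Net.cons 16 0xfc300000000f
  (Net.cons 32 0xf0000
  (Net.cons 64 0xf0000
  (Net.cons 32 0xf00000000fc3f000f
  (Net.cons 16 0xfff00000fff00000030f
  (Net.cons 8 0x53006d00f7000300030030
  (Net.cons 4 0xc020c050e0c000000080c0c
  (Net.cons 2 0x2100310022330003000300330
  (Net.cons 1 0x1110441011414000400140015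
  (Net.nil)))))))))))))

/-- A network. -/
noncomputable def n8 : Net :=
  Net.cons 1 0x4100410100000000010004104
  (Net.cons 2 0x3222000200220000023010100
  (Net.cons 4 0xe0006080400000004020c00
  (Net.cons 8 0x4d00040004000000240000
  (Net.cons 16 0x927f0000000000000000
  (Net.cons 32 0xf6fc0000
  (Net.cons 64 0xf6fc0000
  (Net.cons 32 0xf00000000f6fc0000
  (Net.cons 16 0x927f0000000000002400
  (Net.cons 8 0x2e00fb000400cc00fc00c0
  (Net.cons 4 0x700070904000f00030a0c02
  (Net.cons 2 0x2322002000220330001013201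
  (Net.cons 1 0x4101001010000000004004110
  (Net.nil)))))))))))))

/-- A network. -/
noncomputable def n12 : Net :=
  Net.cons 1 0x4141411110504000011040000
  (Net.cons 2 0x12212123012002011230020
  (Net.cons 4 0x400030c0804000804090900
  (Net.cons 8 0xa6000f0062000000210000
  (Net.cons 16 0xe0000000a00000000
  (Net.cons 32 0xaa00ff00
  (Net.cons 64 0xaa00ff00
  (Net.cons 32 0xe00000000aa0aff00
  (Net.cons 16 0xe000000ee00006900
  (Net.cons 8 0x3f000f0063000000a50090
  (Net.cons 4 0x909030c0c00000804080902
  (Net.cons 2 0x1012212123012002011230320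
  (Net.cons 1 0x5014044444444001144440040
  (Net.nil)))))))))))))

/-- The letters acting on `100` points. -/
noncomputable def WY : List Net := [n0, n1, n2, n3, n4, n5, n6, n7, n8, n8.rev, n12, n12.rev]

theorem WY_ok : allL (Net.ok 100) WY = true := by decide +kernel

/-- The step of the word model. -/
noncomputable abbrev sT : ℕ → ℕ → ℕ := stepT 100 7 WY
/-- The start of the word model. -/
noncomputable abbrev xT : ℕ := idTab 100 7
/-- The step on `100` points. -/
noncomputable abbrev sN : ℕ → ℕ → ℕ := stepN WY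
/-- The step on `315` points. -/
noncomputable abbrev sX : ℕ → ℕ → ℕ := stepW (stepN J2.P.W) HJ.wX

theorem relY : HJ.Rel fun i => ev (permG 100 WY) (nth 0 [0, 1, 2, 3, 4, 5, 6, 7, 8, 9, 10, 11, 12] i) :=
  HJ.rel_of_WM (WM.perm (k := 7) WY_ok (by norm_num)) rfl (by decide +kernel)

theorem ltY (m : ℕ) :
    ev (permG 100 WY) (nth 0 [0, 1, 2, 3, 4, 5, 6, 7, 8, 9, 10, 11, 12] (m + 1)) = permG 100 WY m := by
  rcases lt_or_ge m 12 with h | h
  · rw [← ev_letter (permG 100 WY) (m := m) (by omega)]
    interval_cases m <;> rfl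
  · rw [relY.big _ (by omega), permG, nth_eq_getD, List.getD_eq_default _ _ h]
    exact eq_of_acts_perm (Acts.nil _ _) (acts_netPerm trivial)

variable {G : Type*} [Group G]

/-- The letters, starting at `0`. -/
abbrev gl (z : G) (q : Fin 5 → G) (u n y r : G) (m : ℕ) : G := HJ.fl z q u n y r (m + 1)

/-- A group of Hall–Janko type with its models. -/
structure Hyp (Q : Subgroup G) (z : G) (q : Fin 5 → G) (u n y r : G) [MulAction G (Fin 100)]
    [MulAction G (Fin 315)] : Prop extends HJ.Amal Q z q u n y r where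
  hu : ¬ IsConj z u
  cardG : Nat.card G = 604800
  wm : WM (gl z q u n y r) sT xT
  sm : SM (gl z q u n y r) 100 (finPt 100) sN
  sx : SM (gl z q u n y r) 315 (finPt 315) sX

variable {Q : Subgroup G} {z : G} {q : Fin 5 → G} {u n y r : G}

theorem exists_hyp [Finite G] (A : HJ.Amal Q z q u n y r) (hu : ¬ IsConj z u) :
    ∃ (_ : MulAction G (Fin 100)) (_ : MulAction G (Fin 315)), Hyp Q z q u n y r := by
  obtain ⟨φ, h1⟩ := A.exists_equiv hu
  obtain ⟨ψ, h2, h3⟩ := relY.exists_inj fun e =>
    ne_of_chk (SM.perm WY_ok (by norm_num)) (l := [1]) (l' := []) 20 (by decide +kernel) ((evL_one _ _).trans e)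
  let i1 : MulAction G (Fin 100) := MulAction.compHom _ (ψ.comp φ.symm.toMonoidHom)
  let i2 : MulAction G (Fin 315) := MulAction.compHom _ (J2.PG.subtype.comp φ.symm.toMonoidHom)
  have e : ∀ m, φ.symm (gl z q u n y r m) = HJ.LX (m + 1) := fun m => φ.symm_apply_eq.2 (h1 _).symm
  have a : ∀ m, Acts 100 (finPt 100) (nth Net.nil WY m) (gl z q u n y r m) := fun m =>
    ⟨(acts_permG WY_ok m).1, fun i hi => by
      show ψ (φ.symm (gl z q u n y r m)) • finPt 100 _ = finPt 100 i
      rw [e, h3, ltY]; exact (acts_permG WY_ok m).2 i hi⟩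
  refine ⟨i1, i2, A, hu, by rw [← Nat.card_congr φ.toEquiv, J2.card_PG],
    WM.ofNets (lab_idTab (by norm_num)) a ⊤ (fun _ => trivial) fun x _ hx => ?_,
    SM.ofNets finPt_inj (by norm_num) a, finPt_inj, by norm_num, fun m S => ?_⟩
  · exact φ.symm.injective (h2 (by rw [map_one, map_one]; exact perm_eq_one_of_fix _ hx))
  · refine ((J2.P.M.words HJ.wX).img m S).trans (Set.image_congr fun i _ => ?_)
    show _ = (φ.symm _ : J2.PG) • i
    rw [e]; rfl

theorem evE : ev (gl z q u n y r) 1 = z ∧ ev (gl z q u n y r) 6 = q 4 ∧ ev (gl z q u n y r) 7 = u ∧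
    ev (gl z q u n y r) 9 = y ∧ ev (gl z q u n y r) 11 = r :=
  ⟨ev_letter _ (m := 0) (by norm_num), ev_letter _ (m := 5) (by norm_num), ev_letter _ (m := 6) (by norm_num),
    ev_letter _ (m := 8) (by norm_num), ev_letter _ (m := 10) (by norm_num)⟩

end CfsgLib.JT
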